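import Groth.Prelude.Def_Omega2
import Groth.Agent.S2265
import Groth.Agent.Lib.IdealModSec.Basic
import Groth.Agent.Lib.QCoh.Abelian
import Groth.Agent.Lib.QCoh.Qcqs
import Groth.Agent.Lib.Cohom.Serre
import Mathlib.RingTheory.Kaehler.Basic

/-! # The conormal module of a closed subscheme of an affine scheme -/

set_option autoImplicit false
universe u

open CategoryTheory CategoryTheory.Limits AlgebraicGeometry Opposite TensorProduct

namespace GrothLib.OmegaAff

theorem isQuasicoherent_idealMod {X : Scheme.{u}} (I : X.IdealSheafData) :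
    (ClSub.idealMod I).IsQuasicoherent := by
  have h1 := @Cohom.isQuasicoherent_structureModule.{u}
  have := h1 X
  have := h1 I.subscheme
  have : ((Scheme.Modules.pushforward I.subschemeι).obj (Coh.structureModule I.subscheme)).IsQuasicoherent :=
    QCoh.isQuasicoherent_pushforward _ _
  exact QCoh.isQuasicoherent_kernel _

/-- The conormal module of a closed immersion into an affine scheme. -/
theorem nonempty_conormal_iso (B A : Type u) [CommRing B] [CommRing A] [Algebra B A] {P : Scheme.{u}}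
    (θ : Spec (CommRingCat.of B) ≅ P) :
    Nonempty (Omega.conormal (Spec.map (CommRingCat.ofHom (algebraMap B A)) ≫ θ.hom) ≅
      tilde (R := CommRingCat.of A) (ModuleCat.of A (A ⊗[B] RingHom.ker (algebraMap B A)))) := by
  let φ := CommRingCat.ofHom (algebraMap B A)
  let Δ : Spec (CommRingCat.of A) ⟶ P := Spec.map φ ≫ θ.hom
  let I := Δ.ker
  let M := ClSub.idealMod I
  have := isQuasicoherent_idealMod I
  let M' := M.restrict θ.hom
  have : M'.IsQuasicoherent := inferInstance
  have := (isQuasicoherent_iff_isIso_fromTildeΓ M').1 inferInstance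
  have : QuasiCompact Δ := inferInstance
  let W : P.Opens := θ.hom ''ᵁ ⊤
  have hW : IsAffineOpen W := (isAffineOpen_top _).image_of_isOpenImmersion θ.hom
  let r : Γ(P, W) ≃+* B :=
    (θ.hom.appIso ⊤ ≪≫ Scheme.ΓSpecIso (CommRingCat.of B)).commRingCatIsoToRingEquiv
  have hle : ⊤ ≤ Δ ⁻¹ᵁ W := le_of_eq (by
    rw [show W = θ.hom ''ᵁ ⊤ from rfl, Scheme.Hom.comp_preimage, Scheme.Hom.preimage_image_eq,
      Scheme.Hom.preimage_top])
  have hr : ∀ a : Γ(P, W), algebraMap B A (r a) = (Scheme.ΓSpecIso (CommRingCat.of A)).hom (Δ.appLE W ⊤ hle a) := by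
    intro a
    have h1 : θ.hom.appLE W ⊤ (θ.hom.preimage_image_eq ⊤).ge ≫ (Spec.map φ).appTop = Δ.appLE W ⊤ hle := by
      refine Eq.trans ?_ (Scheme.Hom.appLE_comp_appLE (Spec.map φ) θ.hom W ⊤ ⊤ (θ.hom.preimage_image_eq ⊤).ge le_rfl)
      exact congrArg (_ ≫ ·) (Scheme.Hom.app_eq_appLE (Spec.map φ) (U := ⊤))
    have h2 := ConcreteCategory.congr_hom (Scheme.ΓSpecIso_naturality φ) ((θ.hom.appIso ⊤).hom a)
    refine h2.symm.trans (congrArg (Scheme.ΓSpecIso (CommRingCat.of A)).hom ?_)
    rw [Scheme.Hom.appIso_hom']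
    exact ConcreteCategory.congr_hom h1 a
  have hker : ∀ a : Γ(P, W), a ∈ I.ideal ⟨W, hW⟩ ↔ r a ∈ RingHom.ker (algebraMap B A) := by
    intro a
    rw [show I.ideal ⟨W, hW⟩ = RingHom.ker (Δ.app W).hom from Δ.ker_apply ⟨W, hW⟩, RingHom.mem_ker,
      RingHom.mem_ker, hr]
    have hinj : Function.Injective ((Spec (CommRingCat.of A)).presheaf.map (homOfLE hle).op) := by
      have : IsIso ((Spec (CommRingCat.of A)).presheaf.map (homOfLE hle).op) := by
        rw [show homOfLE hle = eqToHom (le_antisymm hle le_top) from rfl]; infer_instance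
      exact (ConcreteCategory.bijective_of_isIso _).1
    constructor
    · intro h
      show (Scheme.ΓSpecIso _).hom ((Spec (CommRingCat.of A)).presheaf.map (homOfLE hle).op (Δ.app W a)) = 0
      rw [h]; simp
    · intro h
      refine hinj ((Scheme.ΓSpecIso (CommRingCat.of A)).commRingCatIsoToRingEquiv.injective ?_)
      rw [map_zero, map_zero]
      exact h
  let N : ModuleCat.{u} (CommRingCat.of B) := moduleSpecΓFunctor.obj M'
  let v : N → B := fun m => r (IdealModSec.val I W m)
  have hsmul : ∀ (b : B) (m : N), v (b • m) = b * v m := fun b m => by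
    let s : Γ(Spec (CommRingCat.of B), ⊤) := (Spec (CommRingCat.of B)).presheaf.map
      (⊤ : (Spec (CommRingCat.of B)).Opens).leTop.op ((Scheme.ΓSpecIso (CommRingCat.of B)).inv b)
    have h1 : (show Γ(M', ⊤) from b • m) = s • (show Γ(M', ⊤) from m) := Scheme.Modules.smul_Spec_def b m
    have h2 : (show Γ(M, W) from b • m) = (θ.hom.appIso ⊤).inv s • (show Γ(M, W) from m) := h1
    refine (congrArg (fun t => r (IdealModSec.val I W t)) h2).trans ?_
    refine (congrArg r (IdealModSec.val_smul I W _ _)).trans ((map_mul r _ _).trans (congrArg (· * _) ?_))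
    show (Scheme.ΓSpecIso _).hom ((θ.hom.appIso ⊤).hom ((θ.hom.appIso ⊤).inv s)) = b
    rw [Iso.inv_hom_id_apply]
    show (Scheme.ΓSpecIso (CommRingCat.of B)).hom ((Spec (CommRingCat.of B)).presheaf.map (𝟙 _) _) = b
    rw [CategoryTheory.Functor.map_id]
    exact Iso.inv_hom_id_apply (Scheme.ΓSpecIso (CommRingCat.of B)) b
  let l : N →ₗ[B] B :=
    { toFun := v
      map_add' := fun m m' => (congrArg r (map_add ((ClSub.idealModι I).app W).hom m m')).trans (map_add r _ _)
      map_smul' := hsmul }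
  have hlinj : Function.Injective l := r.injective.comp (IdealModSec.val_injective I W)
  have hrange : LinearMap.range l = RingHom.ker (algebraMap B A) := by
    refine le_antisymm ?_ fun b hb => ?_
    · rintro _ ⟨m, rfl⟩
      exact (hker _).1 (IdealModSec.val_mem I ⟨W, hW⟩ m)
    · obtain ⟨a, rfl⟩ := r.surjective b
      obtain ⟨k, hk⟩ := IdealModSec.exists_val_eq I ⟨W, hW⟩ ((hker a).2 hb)
      exact ⟨k, congrArg r hk⟩
  let eN : N ≃ₗ[B] RingHom.ker (algebraMap B A) :=
    (LinearEquiv.ofInjective l hlinj).trans (LinearEquiv.ofEq _ _ hrange)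
  obtain ⟨e⟩ := Groth.Agent.S2265.result B A (RingHom.ker (algebraMap B A))
  let e₁ : M' ≅ (tilde.functor (CommRingCat.of B)).obj N := (@asIso _ _ _ _ (Scheme.Modules.fromTildeΓ (R := CommRingCat.of B) M') ((isQuasicoherent_iff_isIso_fromTildeΓ M').1 inferInstance)).symm
  exact ⟨((Scheme.Modules.pullbackComp (Spec.map φ) θ.hom).app M).symm ≪≫
    (Scheme.Modules.pullback (Spec.map φ)).mapIso
      (((Scheme.Modules.restrictFunctorIsoPullback θ.hom).app M).symm ≪≫ e₁ ≪≫
        (tilde.functor (CommRingCat.of B)).mapIso eN.toModuleIso) ≪≫ e⟩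

end GrothLib.OmegaAff
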